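import Cfsg.Agent.H756.PU.Grp

/-!
# S5258: the matrices of the elements of `UG K` (helper681)
-/

set_option autoImplicit false

namespace Cfsg.Agent.H681.PU

open Matrix Cfsg.Agent.H756.PU

universe u

variable (K : Type u) [Field K]

/-- the Gram matrix: `e1, e2, d, f1, f2` with `(ei, fi) = 1`, `(d, d) = 1` -/
def J5 : Matrix (Fin 5) (Fin 5) K :=
  !![0, 0, 0, 1, 0; 0, 0, 0, 0, 1; 0, 0, 1, 0, 0; 1, 0, 0, 0, 0; 0, 1, 0, 0, 0]

theorem J5_mul_J5 : J5 K * J5 K = 1 := by
  ext i j
  fin_cases i <;> fin_cases j <;> simp [J5, Matrix.mul_apply, Fin.sum_univ_five]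

theorem J5_transpose : (J5 K)ᵀ = J5 K := by
  ext i j
  fin_cases i <;> fin_cases j <;> simp [J5]

theorem J5_map (σ : K →+* K) : (J5 K).map σ = J5 K := by
  ext i j
  fin_cases i <;> fin_cases j <;> simp [J5]

variable {K}
variable [StarRing K]

/-- the matrix of an element of `UG K` -/
def umat (x : UG K) : Matrix (Fin 5) (Fin 5) K :=
  !![1, x.r, x.u1, x.a - x.b * star x.r, x.b;
     0, 1, x.u2, x.d - x.c * star x.r, x.c;
     0, 0, 1, -(star x.u1 - star x.u2 * star x.r), -star x.u2;
     0, 0, 0, 1, 0;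
     0, 0, 0, -star x.r, 1]

theorem det_umat (x : UG K) : (umat x).det = 1 := by
  simp [umat, Matrix.det_succ_column_zero, Fin.sum_univ_succ, Fin.succAbove]

set_option maxHeartbeats 4000000 in
theorem umat_mul (x y : UG K) : umat x * umat y = umat (x * y) := by
  have h2 := y.hc
  ext i j
  fin_cases i <;> fin_cases j <;>
    simp [umat, Matrix.mul_apply, Fin.sum_univ_five, UG.mul_a, UG.mul_b, UG.d]
  all_goals first | ring1 | linear_combination (star x.r) * h2

set_option maxHeartbeats 4000000 in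
theorem umat_mem (x : UG K) : (umat x)ᵀ * J5 K * (umat x).map (starRingEnd K) = J5 K := by
  have h1 := x.ha
  have h2 := x.hc
  ext i j
  fin_cases i <;> fin_cases j <;>
    simp [umat, J5, Matrix.mul_apply, Fin.sum_univ_five, UG.d]
  all_goals simp only [starRingEnd_apply, star_star]
  all_goals first
    | ring1
    | linear_combination h2
    | linear_combination h1 + x.r * star x.r * h2
    | linear_combination (-star x.r) * h2
    | linear_combination (-x.r) * h2

theorem umat_inj {x y : UG K} (h : umat x = umat y) : x = y := by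
  have h01 := congrFun (congrFun h 0) 1
  have h02 := congrFun (congrFun h 0) 2
  have h03 := congrFun (congrFun h 0) 3
  have h04 := congrFun (congrFun h 0) 4
  have h12 := congrFun (congrFun h 1) 2
  have h14 := congrFun (congrFun h 1) 4
  simp [umat] at h01 h02 h03 h04 h12 h14
  rw [h01, h04, sub_left_inj] at h03
  exact UG.ext h01 h02 h12 h03 h04 h14

theorem umat_one : umat (1 : UG K) = 1 := by
  ext i j
  fin_cases i <;> fin_cases j <;> simp [umat, UG.d]

/-- A matrix taking the standard form to the form of `J5`. -/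
theorem exists_T {σ : K →+* K} (hσ : ∀ x, σ (σ x) = x) {ν c : K} (hν : ν * σ ν = -1) (hc : σ c ≠ c) :
    ∃ T T' : Matrix (Fin 5) (Fin 5) K, T * T' = 1 ∧ Tᵀ * T.map σ = J5 K := by
  have hc0 : c ≠ 0 := by rintro rfl; exact hc (map_zero σ)
  have hσc0 : σ c ≠ 0 := (map_ne_zero σ).mpr hc0
  have hν0 : ν ≠ 0 := by
    rintro rfl
    rw [zero_mul] at hν
    exact one_ne_zero (neg_eq_zero.1 hν.symm)
  obtain ⟨w, hw, hw1⟩ : ∃ w : K, w * σ w = 1 ∧ 1 - w ≠ 0 := by
    refine ⟨c / σ c, ?_, ?_⟩
    · rw [map_div₀, hσ]; field_simp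
    · intro h
      apply hc
      have h2 : c / σ c = 1 := (sub_eq_zero.1 h).symm
      rw [div_eq_one_iff_eq hσc0] at h2
      exact h2.symm
  set a := (1 - w)⁻¹ with ha
  have haw : a - w * a = 1 := by
    rw [ha]; field_simp
  have haw' : σ a - σ w * σ a = 1 := by
    rw [← map_mul, ← map_sub, haw, map_one]
  let T : Matrix (Fin 5) (Fin 5) K :=
    !![1, 0, 0, a, 0; ν, 0, 0, ν * w * a, 0; 0, 1, 0, 0, a; 0, ν, 0, 0, ν * w * a; 0, 0, 1, 0, 0]
  have hT : Tᵀ * T.map σ = J5 K := by
    ext i j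
    fin_cases i <;> fin_cases j <;>
      simp [T, J5, Matrix.mul_apply, Fin.sum_univ_five, Matrix.transpose_apply]
    all_goals first
      | linear_combination hν
      | linear_combination haw + (w * a) * hν
      | linear_combination haw' + (σ w * σ a) * hν
      | linear_combination (a * σ a * w * σ w) * hν - a * σ a * hw
  refine ⟨T, J5 K * (T.map σ)ᵀ, ?_, hT⟩
  have h1 : (J5 K * Tᵀ) * T.map σ = 1 := by
    rw [Matrix.mul_assoc, hT, J5_mul_J5]
  have h2 := congrArg (fun M : Matrix (Fin 5) (Fin 5) K => M.map σ) h1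
  have h3 : (T.map σ).map σ = T := by
    ext i j
    rw [Matrix.map_apply, Matrix.map_apply, hσ]
  simp only [Matrix.map_mul, h3, J5_map, Matrix.map_one σ (map_zero σ) (map_one σ)] at h2
  exact mul_eq_one_comm.mp h2

end Cfsg.Agent.H681.PU
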