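import Cfsg.Agent.H681.PU.Mat
import Cfsg.Agent.H681.PU.Card
import Cfsg.Agent.S0278
import Cfsg.Agent.S0280

/-!
# S5258: (PU-SYL) the Sylow `p`-subgroups of `PSU₅(pⁿ)` are isomorphic to `UG K` (helper681)
-/

set_option autoImplicit false

namespace Cfsg.Agent.H681.PU

open Matrix Cfsg.Agent.H756.PU Cfsg.Agent.LieClassical.HermBasic

universe u

/-- Membership in `SU n F q` as a matrix equation. -/
theorem mem_SU_iff' {F : Type*} [Field F] {n : ℕ} {σ : F →+* F} {q : ℕ} (hs : ∀ x, σ x = x ^ q)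
    (g : SpecialLinearGroup (Fin n) F) :
    g ∈ Cfsg.SU n F q ↔
      (g : Matrix (Fin n) (Fin n) F)ᵀ * (g : Matrix (Fin n) (Fin n) F).map σ = 1 := by
  have hform : ∀ u v : Fin n → F, Cfsg.hermForm n F q u v = u ⬝ᵥ (fun i => σ (v i)) := by
    intro u v
    simp only [Cfsg.hermForm, dotProduct, hs]
  have hmv : ∀ v : Fin n → F, (fun i => σ (((g : Matrix (Fin n) (Fin n) F) *ᵥ v) i)) =
      (g : Matrix (Fin n) (Fin n) F).map σ *ᵥ (fun i => σ (v i)) := by
    intro v
    funext i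
    simp [Matrix.mulVec, dotProduct, map_sum, map_mul]
  have key : ∀ u v : Fin n → F, Cfsg.hermForm n F q ((g : Matrix (Fin n) (Fin n) F) *ᵥ u)
      ((g : Matrix (Fin n) (Fin n) F) *ᵥ v) = u ⬝ᵥ (((g : Matrix (Fin n) (Fin n) F)ᵀ *
        (g : Matrix (Fin n) (Fin n) F).map σ) *ᵥ (fun i => σ (v i))) := by
    intro u v
    rw [hform, hmv, ← Matrix.mulVec_mulVec, Matrix.dotProduct_mulVec u, Matrix.vecMul_transpose]
  constructor
  · intro h
    ext i j
    have h1 := h (Pi.single i 1) (Pi.single j 1)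
    change Cfsg.hermForm n F q ((g : Matrix (Fin n) (Fin n) F) *ᵥ _)
      ((g : Matrix (Fin n) (Fin n) F) *ᵥ _) = _ at h1
    rw [key, hform] at h1
    have h2 : (fun k => σ ((Pi.single j 1 : Fin n → F) k)) = Pi.single j 1 := by
      funext k
      by_cases hk : k = j
      · subst hk; simp
      · simp [hk]
    rw [h2] at h1
    simpa [Matrix.one_apply, Pi.single_apply, eq_comm] using h1
  · intro h u v
    change Cfsg.hermForm n F q ((g : Matrix (Fin n) (Fin n) F) *ᵥ _)
      ((g : Matrix (Fin n) (Fin n) F) *ᵥ _) = _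
    rw [key, hform, h, Matrix.one_mulVec]

section
variable {K : Type u} [Field K] [StarRing K]

/-- the homomorphism from the change of basis -/
theorem exists_hom {p n : ℕ} (h : HypK K p n) :
    ∃ φ : UG K →* Cfsg.SU 5 K (p ^ n), Function.Injective φ := by
  haveI : Fintype K := @Fintype.ofFinite K h.fin
  have hF : Fintype.card K = (p ^ n) ^ 2 := by rw [← Nat.card_eq_fintype_card, h.card]
  have hs : ∀ x : K, starRingEnd K x = x ^ (p ^ n) := fun x => by rw [starRingEnd_apply, h.star_eq]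
  obtain ⟨ν, hν⟩ := exists_norm_eq hF (c := (-1 : K)) (by rw [neg_pow_q hF, one_pow])
  obtain ⟨c, hc⟩ := exists_not_fixed hF
  obtain ⟨T, T', hT, hJ⟩ := exists_T (σ := starRingEnd K) (fun x => by
    rw [starRingEnd_apply, starRingEnd_apply, star_star]) (ν := ν) (c := c) (by rw [hs, hν]) (by rw [hs]; exact hc)
  have hT' : T' * T = 1 := mul_eq_one_comm.mp hT
  have hdet : ∀ x : UG K, (T * umat x * T').det = 1 := by
    intro x
    rw [Matrix.det_mul, Matrix.det_mul, det_umat, mul_one, ← Matrix.det_mul, hT, Matrix.det_one]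
  have hmem : ∀ x : UG K, (⟨T * umat x * T', hdet x⟩ : SpecialLinearGroup (Fin 5) K) ∈ Cfsg.SU 5 K (p ^ n) := by
    intro x
    refine (mem_SU_iff' hs _).2 ?_
    change (T * umat x * T')ᵀ * (T * umat x * T').map (starRingEnd K) = 1
    simp only [Matrix.transpose_mul, Matrix.map_mul]
    calc T'ᵀ * ((umat x)ᵀ * Tᵀ) * (T.map (starRingEnd K) * (umat x).map (starRingEnd K) *
          T'.map (starRingEnd K))
        = T'ᵀ * ((umat x)ᵀ * (Tᵀ * T.map (starRingEnd K)) * (umat x).map (starRingEnd K)) *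
          T'.map (starRingEnd K) := by simp only [Matrix.mul_assoc]
      _ = T'ᵀ * (Tᵀ * T.map (starRingEnd K)) * T'.map (starRingEnd K) := by rw [hJ, umat_mem]
      _ = (T * T')ᵀ * (T * T').map (starRingEnd K) := by
          simp only [Matrix.transpose_mul, Matrix.map_mul, Matrix.mul_assoc]
      _ = 1 := by rw [hT, Matrix.transpose_one, Matrix.one_mul,
          Matrix.map_one _ (map_zero _) (map_one _)]
  let φ : UG K →* Cfsg.SU 5 K (p ^ n) :=
    { toFun := fun x => ⟨⟨T * umat x * T', hdet x⟩, hmem x⟩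
      map_one' := by
        apply Subtype.ext
        apply Subtype.ext
        change T * umat 1 * T' = 1
        rw [umat_one, Matrix.mul_one, hT]
      map_mul' := by
        intro x y
        apply Subtype.ext
        apply Subtype.ext
        change T * umat (x * y) * T' = (T * umat x * T') * (T * umat y * T')
        calc T * umat (x * y) * T' = T * umat x * 1 * umat y * T' := by
              rw [← umat_mul, Matrix.mul_one]; simp only [Matrix.mul_assoc]
          _ = (T * umat x * T') * (T * umat y * T') := by rw [← hT']; simp only [Matrix.mul_assoc] }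
  refine ⟨φ, fun x y hxy => ?_⟩
  have h1 : T * umat x * T' = T * umat y * T' := congrArg (fun g : Cfsg.SU 5 K (p ^ n) => g.1.1) hxy
  apply umat_inj
  calc umat x = (T' * T) * umat x * (T' * T) := by rw [hT', Matrix.one_mul, Matrix.mul_one]
    _ = T' * (T * umat x * T') * T := by simp only [Matrix.mul_assoc]
    _ = T' * (T * umat y * T') * T := by rw [h1]
    _ = (T' * T) * umat y * (T' * T) := by simp only [Matrix.mul_assoc]
    _ = umat y := by rw [hT', Matrix.one_mul, Matrix.mul_one]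

theorem prod_eq (q : ℕ) : ∏ i ∈ Finset.range 5, (if Even i then q ^ (i + 1) + 1 else q ^ (i + 1) - 1) =
    (q + 1) * (q ^ 2 - 1) * (q ^ 3 + 1) * (q ^ 4 - 1) * (q ^ 5 + 1) := by
  have e0 : Even 0 := by decide
  have e1 : ¬ Even 1 := by decide
  have e2 : Even 2 := by decide
  have e3 : ¬ Even 3 := by decide
  have e4 : Even 4 := by decide
  simp only [Finset.prod_range_succ, Finset.prod_range_zero, if_pos e0, if_neg e1, if_pos e2, if_neg e3, if_pos e4]
  norm_num

theorem card_center {F : Type u} [Field F] [Fintype F] {q : ℕ} (hF : Fintype.card F = q ^ 2) :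
    Nat.card (Subgroup.center (Cfsg.SU 5 F q)) = Nat.gcd 5 (q + 1) := by
  classical
  have h1 := Cfsg.Agent.S0278.result hF 5 (by norm_num)
  have h2 := Cfsg.Agent.S0280.result hF 5 (by norm_num)
  have h3 : Nat.card (Cfsg.SU 5 F q) = Nat.card (Cfsg.PSU 5 F q) * Nat.card (Subgroup.center (Cfsg.SU 5 F q)) :=
    Subgroup.card_eq_card_quotient_mul_card_subgroup _
  have hpos : 0 < Nat.card (Cfsg.PSU 5 F q) := Nat.card_pos
  have h4 : (q + 1) * Nat.card (Cfsg.PSU 5 F q) * Nat.card (Subgroup.center (Cfsg.SU 5 F q)) =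
      (q + 1) * Nat.card (Cfsg.PSU 5 F q) * Nat.gcd 5 (q + 1) := by
    rw [← h2, h3] at h1
    linarith
  exact Nat.eq_of_mul_eq_mul_left (by positivity) h4

/-- the embedding in `PSU` -/
theorem exists_hom_psu {p n : ℕ} (h : HypK K p n) :
    ∃ φ : UG K →* Cfsg.PSU 5 K (p ^ n), Function.Injective φ := by
  haveI : Fintype K := @Fintype.ofFinite K h.fin
  have hF : Fintype.card K = (p ^ n) ^ 2 := by rw [← Nat.card_eq_fintype_card, h.card]
  obtain ⟨φ, hφ⟩ := exists_hom h
  refine ⟨(QuotientGroup.mk' (Subgroup.center (Cfsg.SU 5 K (p ^ n)))).comp φ, ?_⟩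
  rw [injective_iff_map_eq_one]
  intro x hx
  have hx1 : φ x ∈ Subgroup.center (Cfsg.SU 5 K (p ^ n)) := (QuotientGroup.eq_one_iff _).1 hx
  obtain ⟨k, hk⟩ := isPGroup_UG h x
  have h1 : orderOf (φ x) ∣ p ^ k := orderOf_dvd_of_pow_eq_one (by rw [← map_pow, hk, map_one])
  have h2 : orderOf (φ x) ∣ p ^ n + 1 := by
    refine dvd_trans ?_ (Nat.gcd_dvd_right 5 (p ^ n + 1))
    rw [← card_center hF, ← Subgroup.orderOf_mk (φ x) hx1]
    exact orderOf_dvd_natCard _
  have h3 : Nat.Coprime (p ^ k) (p ^ n + 1) := by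
    apply Nat.Coprime.pow_left
    rw [Nat.Prime.coprime_iff_not_dvd h.pp]
    intro hd
    have h4 : p ∣ 1 := (Nat.dvd_add_right (dvd_pow_self p (by have := h.hn; omega))).1 hd
    exact h.pp.one_lt.ne' (Nat.dvd_one.1 h4)
  have h5 : orderOf (φ x) = 1 := Nat.eq_one_of_dvd_coprimes h3 h1 h2
  rw [orderOf_eq_one_iff] at h5
  exact hφ (h5.trans (map_one φ).symm)

theorem arith {p q m : ℕ} (hp : p.Prime) (hpq : p ∣ q) (hq0 : 0 < q)
    (h2 : Nat.gcd 5 (q + 1) * ((q + 1) * (q ^ 10 * m)) =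
      q ^ (5 * (5 - 1) / 2) * ((q + 1) * (q ^ 2 - 1) * (q ^ 3 + 1) * (q ^ 4 - 1) * (q ^ 5 + 1))) : ¬ p ∣ m := by
  intro hd
  have h4 : q ^ 10 * (Nat.gcd 5 (q + 1) * (q + 1) * m) =
      q ^ 10 * ((q + 1) * (q ^ 2 - 1) * (q ^ 3 + 1) * (q ^ 4 - 1) * (q ^ 5 + 1)) := by
    have h3 : q ^ (5 * (5 - 1) / 2) = q ^ 10 := rfl
    rw [← h3, ← h2, h3]; ring
  have h5 := Nat.eq_of_mul_eq_mul_left (by positivity) h4
  have h6 : p ∣ (q + 1) * (q ^ 2 - 1) * (q ^ 3 + 1) * (q ^ 4 - 1) * (q ^ 5 + 1) := by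
    rw [← h5]; exact dvd_mul_of_dvd_right hd _
  have ha : ∀ j, 0 < j → ¬ p ∣ q ^ j + 1 := by
    intro j hj hd'
    have : p ∣ 1 := (Nat.dvd_add_right (dvd_pow hpq hj.ne')).1 hd'
    exact hp.one_lt.ne' (Nat.dvd_one.1 this)
  have hb : ∀ j, 0 < j → ¬ p ∣ q ^ j - 1 := by
    intro j hj hd'
    have h7 : q ^ j = q ^ j - 1 + 1 := (Nat.sub_add_cancel (Nat.one_le_pow _ _ hq0)).symm
    have h8 : p ∣ q ^ j - 1 + 1 := by rw [← h7]; exact dvd_pow hpq hj.ne'
    have : p ∣ 1 := (Nat.dvd_add_right hd').1 h8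
    exact hp.one_lt.ne' (Nat.dvd_one.1 this)
  rw [hp.dvd_mul, hp.dvd_mul, hp.dvd_mul, hp.dvd_mul] at h6
  have ha1 := ha 1 one_pos
  rw [pow_one] at ha1
  rcases h6 with (((h6 | h6) | h6) | h6) | h6
  · exact ha1 h6
  · exact hb 2 (by norm_num) h6
  · exact ha 3 (by norm_num) h6
  · exact hb 4 (by norm_num) h6
  · exact ha 5 (by norm_num) h6

/-- (PU-SYL) -/
theorem stSyl : StSyl.{u} := by
  intro K _ _ p n _ h T
  haveI : Fintype K := @Fintype.ofFinite K h.fin
  have hF : Fintype.card K = (p ^ n) ^ 2 := by rw [← Nat.card_eq_fintype_card, h.card]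
  classical
  obtain ⟨φ, hφ⟩ := exists_hom_psu h
  have hp := h.pp
  have hn := h.hn
  have hPp : IsPGroup p φ.range := (isPGroup_UG h).of_equiv (MonoidHom.ofInjective hφ)
  have hcard : Nat.card φ.range = (p ^ n) ^ 10 := by
    rw [← card_UG h]; exact (Nat.card_congr (MonoidHom.ofInjective hφ).toEquiv).symm
  have hidx : ¬ p ∣ φ.range.index := by
    have h2 := Cfsg.Agent.S0280.result hF 5 (by norm_num)
    rw [prod_eq] at h2
    have h3 := φ.range.card_mul_index
    rw [hcard] at h3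
    rw [← h3] at h2
    exact arith hp (dvd_pow_self p (by omega)) (pow_pos hp.pos n) h2
  let P : Sylow p (Cfsg.PSU 5 K (p ^ n)) := hPp.toSylow hidx
  exact ⟨(Sylow.equiv T P).trans (MonoidHom.ofInjective hφ).symm⟩

end

end Cfsg.Agent.H681.PU
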